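import Groth.Agent.BlowUpK28.Setup
import Groth.Agent.KRR28.Excess.Transfer
import Groth.Agent.FlatMor12.SelfThickening
import Groth.Agent.S3202

/-!
# The `K`-theory sequence of a blow-up
-/

set_option autoImplicit false
set_option linter.style.haveILetI false
set_option backward.isDefEq.respectTransparency false
set_option maxHeartbeats 800000

universe u v

open CategoryTheory CategoryTheory.Limits AlgebraicGeometry TopologicalSpace LambdaRing
attribute [local instance] HasDerivedCategory.standard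

noncomputable section

namespace Groth.Agent.BlowUpK28

variable {X Y : Scheme.{u}}

theorem isFinLocFreeOfRank_zero_of_isZero {M : X.Modules} (hz : IsZero M) : FlatMod.IsFinLocFreeOfRank 0 M :=
  fun _ => ⟨⊤, trivial, ⟨(((Scheme.Modules.restrictFunctor (⊤ : X.Opens).ι).map_isZero hz)).iso
    ((IsZero.iff_id_eq_zero _).2 (Limits.Sigma.hom_ext _ _ fun j => j.elim0))⟩⟩

theorem isRegularClosedImmersion_id : Mor2.IsRegularClosedImmersion (𝟙 X) := by
  refine ⟨inferInstance, fun z => ?_⟩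
  obtain ⟨U, hU, hzU, -⟩ := exists_isAffineOpen_mem_and_subset (x := z) (U := ⊤) trivial
  haveI : Nonempty U.toScheme := ⟨⟨z, hzU⟩⟩
  refine ⟨U, hU, hzU, [], ⟨RingTheory.Sequence.IsWeaklyRegular.nil _ _, ?_⟩, ?_⟩
  · rw [Ideal.ofList_nil, Submodule.bot_smul]
    exact top_ne_bot
  · rw [Ideal.ofList_nil, Scheme.Hom.ker_apply]
    exact (RingHom.injective_iff_ker_eq_bot _).1 fun a b h => h

theorem isPushCl_id [IsNoetherian X] (hX : KRR.HasEnoughLocFree X) {K : Type v} [CommRing K]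
    (φ : SGA6.Kvb X →+ K) : KRR.IsPushCl (𝟙 X) φ φ (AddMonoidHom.id K) := fun F hF n L π hL => by
  let e : (Scheme.Modules.pushforward (𝟙 X)).obj F ≅ F := (Scheme.Modules.pushforwardId X).app F
  have hA : FlatMod.IsFinLocFree ((Scheme.Modules.pushforward (𝟙 X)).obj F) :=
    FlatMorAdm.isFinLocFree_of_iso e.symm hF
  have h := KPush28.vbCl_eq_sum hX (KPush28.cohBdd_of_finLocFree hA) n L π hL
  rw [KPushPr28.vbCl_vb hX hA] at h
  show φ (KRR.cl X F) = _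
  refine (congrArg φ (show KRR.cl X F = ∑ k ∈ Finset.range (n + 1), (-1 : ℤ) ^ k • KRR.cl X (L.X k) from
    (h.trans (ExtFilt28.clv_iso e)).symm)).trans ?_
  rw [map_sum]
  refine Finset.sum_congr rfl fun k _ => ?_
  rw [map_zsmul]

/-- Self-intersection: classes killed by the push-forward of a divisor are killed by `1 - ℓ`. -/
theorem mul_one_sub_eq_zero_of_push [IsNoetherian X] [ConnectedSpace ↥X] [IsNoetherian Y] [ConnectedSpace ↥Y]
    {AY : Y.Modules} (hAY : CohB1.IsAmple AY) (f : X ⟶ Y) (hf : Mor2.IsRegularClosedImmersion f)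
    (hC : FlatMod.IsFinLocFreeOfRank 1 (Omega.conormal f)) {KX KY : Type v} [CommRing KX] [LambdaOps KX]
    [CommRing KY] [LambdaOps KY] {PX : PosStructure KX} {PY : PosStructure KY} {φX : SGA6.Kvb X →+ KX}
    {φY : SGA6.Kvb Y →+ KY} (hKX : KRR.IsModel X KX PX φX) (hKY : KRR.IsModel Y KY PY φY) {gf : KX →+ KY}
    (hgf : KRR.IsPushCl f φX φY gf) {z : KX} (hz : gf z = 0) :
    z * (1 - φX (KRR.cl X (Omega.conormal f))) = 0 := by
  haveI := hf.1
  have hAX := AmpleLib.isAmple_pullback_of_isAffineHom f hAY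
  have kX := KSplit28.isKRing_of_isModel hKX
  obtain ⟨g, hg, -⟩ := KPull28.existsUnique_isPull f φX φY hKY.bijective
  have h0 : IsZero (Omega.conormal (𝟙 X)) := FlatMor12.isZero_conormal_of_isIso _
  have h := KRR28.excess' hAY hAX f hf hC f (𝟙 X) (𝟙 X) (IsKernelPair.id_of_mono f)
    isRegularClosedImmersion_id (isFinLocFreeOfRank_zero_of_isZero h0) hKX hKY hKX hKX hg (KRR28.pull_id kX) hgf
    (isPushCl_id (KRR28.enough_of_ample hAX) φX) z
  rw [hz, map_zero, KModel28.cl_isZero h0, map_zero, sub_zero] at h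
  simp only [AddMonoidHom.id_apply] at h
  set l := φX (KRR.cl X (Omega.conormal f))
  have haug : PX.aug l = 1 := hKX.aug_cl 1 _ hC
  have hl : KRR.lamAlt PX l = 1 - l := by
    rw [KRR.lamAlt, haug]
    simp [Finset.sum_range_succ, LambdaOps.lam_zero, LambdaOps.lam_one]
    ring
  rw [hl, mul_comm] at h
  exact h.symm

section Sequence

variable {S X₁ Y₁ : Scheme.{u}} [IsAffine S] [IsNoetherian Y] {qY : Y ⟶ S}
  {f : X ⟶ Y} {φ : Y₁ ⟶ Y}

theorem coe_off [IsClosedImmersion f] : ((f.ker.support.compl : Y.Opens) : Set Y) = (Set.range f)ᶜ := by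
  show (f.ker.support : Set Y)ᶜ = _
  rw [f.support_ker, f.isClosedEmbedding.isClosed_range.closure_eq]

theorem coe_off_preimage [IsClosedImmersion f] {f₁ : X₁ ⟶ Y₁} {ψ : X₁ ⟶ X} (hsq : IsPullback f₁ ψ φ f) :
    ((φ ⁻¹ᵁ f.ker.support.compl : Y₁.Opens) : Set Y₁) = (Set.range f₁)ᶜ := by
  rw [range_exceptional hsq, ← Set.preimage_compl, ← coe_off]
  rfl

/-- Pull-back to a blow-up in a regular centre is injective. -/
theorem injective_pull_blowUp [ConnectedSpace ↥Y] [ConnectedSpace ↥Y₁] {A : Y.Modules} (hA : CohB1.IsAmple A)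
    (hf : Mor2.IsRegularClosedImmersion f) (hφ : BlowUp.IsBlowUp φ f.ker)
    {KY KY₁ : Type v} [CommRing KY] [LambdaOps KY] [CommRing KY₁] [LambdaOps KY₁] {PY : PosStructure KY}
    {PY₁ : PosStructure KY₁} {φY : SGA6.Kvb Y →+ KY} {φY₁ : SGA6.Kvb Y₁ →+ KY₁}
    (hKY : KRR.IsModel Y KY PY φY) (hKY₁ : KRR.IsModel Y₁ KY₁ PY₁ φY₁) {gφ : KY →+ KY₁}
    (hgφ : KRR.IsPull φ φY φY₁ gφ) {y : KY} (hy : gφ y = 0) : y = 0 := by
  haveI := isNoetherian_blowUp hφ
  haveI := isProper_blowUp hφ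
  have hIft : BlowUp.IsFiniteTypeIdeal f.ker := fun U => by
    haveI := IsLocallyNoetherian.component_noetherian U
    exact Ideal.fg_of_isNoetherianRing _
  obtain ⟨N, i, hi, hib⟩ := (RelVALib.isProjective_iff_isHProjective hA φ).1 (FlatMorAdm.isProjective_blowUp hIft hφ)
  haveI := hi
  haveI := KPushPr28.isNoetherian_PY N Y
  obtain ⟨B, hB⟩ := KRR28.exists_isAmple_PY hA N
  obtain ⟨KP, _, _, PP, φP, hKP⟩ := KModel28.exists_model Y
  obtain ⟨KM, _, _, PM, φM, hKM⟩ := KModel28.exists_model Y₁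
  obtain ⟨a, ha, haφ, -, -⟩ := KSplit28.exists_iso hKP hKY
  obtain ⟨b, hb, hbφ, -, -⟩ := KSplit28.exists_iso hKM hKY₁
  obtain ⟨g, hg, -⟩ := KPull28.existsUnique_isPull φ φM φP hKP.bijective
  have hcomm : ∀ z, b (g z) = gφ (a z) := fun z => by
    refine (KSplit28.isKRing_of_isModel hKP).induction (motive := fun z => b (g z) = gφ (a z)) (by simp)
      (fun E hE => ?_) (fun c h => by simp [h]) (fun c d hc hd => by simp [hc, hd]) z
    rw [hg E hE, hbφ, haφ, hgφ E hE]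
  obtain ⟨z, rfl⟩ := ha.2 y
  have hz : g z = 0 := hb.1 (by rw [hcomm, hy, map_zero])
  haveI := hf.1
  haveI := SDiv28.isIso_off_center hφ
  obtain ⟨y₁, hy₁⟩ : ((SDiv28.offCenter φ f.ker : Y₁.Opens) : Set Y₁).Nonempty := by
    by_contra hne
    rw [Set.not_nonempty_iff_eq_empty] at hne
    haveI : Subsingleton Γ(Y₁, ⊤ ⊓ SDiv28.offCenter φ f.ker) :=
      CommRingCat.subsingleton_of_isTerminal (TopCat.Sheaf.isTerminalOfEqEmpty Y₁.sheaf
        (SetLike.coe_injective (by simp [hne])))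
    haveI : Nonempty (⊤ : Y₁.Opens).toScheme := ⟨⟨(ConnectedSpace.toNonempty : Nonempty ↥Y₁).some, trivial⟩⟩
    haveI : Nontrivial Γ(Y₁, ⊤) := Scheme.component_nontrivial Y₁ ⊤
    exact one_ne_zero (SDiv28.isDenseOpen_offCenter hφ ⊤ 1 (Subsingleton.elim _ _))
  rw [KRR28.injective_pull hA φ (S3202.result f hf φ hφ) i hib (Dual22Lib.ProjSmooth.smooth_toBase N Y)
    (Y.fromSpecResidueField (φ y₁)) f.ker.support.compl
    (by rw [Scheme.range_fromSpecResidueField, Scheme.Opens.range_ι]; exact Set.singleton_subset_iff.2 hy₁)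
    (KRR28.enough_of_ample hA) (KRR28.enough_of_ample hB) hKP (KSplit28.isKRing_of_isModel hKM) hg hz, map_zero]

variable [ConnectedSpace ↥Y] [ConnectedSpace ↥X] [ConnectedSpace ↥X₁] [ConnectedSpace ↥Y₁]
  {f₁ : X₁ ⟶ Y₁} {ψ : X₁ ⟶ X} [IsClosedImmersion f₁]
  {KX KY KX₁ KY₁ : Type v} [CommRing KX] [LambdaOps KX] [CommRing KY] [LambdaOps KY] [CommRing KX₁]
  [LambdaOps KX₁] [CommRing KY₁] [LambdaOps KY₁] {PX : PosStructure KX} {PY : PosStructure KY}
  {PX₁ : PosStructure KX₁} {PY₁ : PosStructure KY₁} {φX : SGA6.Kvb X →+ KX} {φY : SGA6.Kvb Y →+ KY}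
  {φX₁ : SGA6.Kvb X₁ →+ KX₁} {φY₁ : SGA6.Kvb Y₁ →+ KY₁}
  {gφ : KY →+ KY₁} {gψ : KX →+ KX₁} {gf : KX →+ KY} {gf₁ : KX₁ →+ KY₁}

/-- Surjectivity at the end of the blow-up sequence. -/
theorem sequence_surjective (hqY : KRR.IsQProjOver qY)
    (hYreg : ∀ y : Y, IsRegularLocalRing (Y.presheaf.stalk y)) (hf : Mor2.IsRegularClosedImmersion f) {m : ℕ}
    (hC : FlatMod.IsFinLocFreeOfRank (m + 1) (Omega.conormal f))
    (hXreg : ∀ x : X, IsRegularLocalRing (X.presheaf.stalk x)) (hφ : BlowUp.IsBlowUp φ f.ker)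
    (hsq : IsPullback f₁ ψ φ f) (hC₁ : FlatMod.IsFinLocFreeOfRank 1 (Omega.conormal f₁))
    (hKY : KRR.IsModel Y KY PY φY) (hKX₁ : KRR.IsModel X₁ KX₁ PX₁ φX₁) (hKY₁ : KRR.IsModel Y₁ KY₁ PY₁ φY₁)
    (hgφ : KRR.IsPull φ φY φY₁ gφ) (hgf₁ : KRR.IsPushCl f₁ φX₁ φY₁ gf₁) (y₁ : KY₁) :
    ∃ (x₁ : KX₁) (y : KY), gf₁ x₁ + gφ y = y₁ := by
  obtain ⟨A, hA⟩ := KRR28.exists_isAmple_qproj hqY
  haveI := hf.1
  haveI := isNoetherian_blowUp hφ
  haveI := isNoetherian_closed f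
  obtain ⟨A₁, hA₁⟩ := exists_isAmple_blowUp hA hφ
  have hY₁reg := regular_blowUp hYreg f hf hXreg hφ
  have hX₁reg := regular_locPn hXreg
    (locPn_exceptional f hf hC φ hφ f₁ ψ hsq (KRRPBLib.isInvertible_of_rankOne hC₁))
  haveI := SDiv28.isIso_off_center hφ
  let U : Y.Opens := f.ker.support.compl
  haveI : CompactSpace U.toScheme := isCompact_iff_compactSpace.1 (NoetherianSpace.isCompact (U : Set Y))
  haveI : IsLocallyNoetherian U.toScheme := isLocallyNoetherian_of_isOpenImmersion U.ι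
  haveI : IsNoetherian U.toScheme := {}
  haveI : CompactSpace (φ ⁻¹ᵁ U).toScheme :=
    isCompact_iff_compactSpace.1 (NoetherianSpace.isCompact ((φ ⁻¹ᵁ U : Y₁.Opens) : Set Y₁))
  haveI : IsLocallyNoetherian (φ ⁻¹ᵁ U).toScheme := isLocallyNoetherian_of_isOpenImmersion (φ ⁻¹ᵁ U).ι
  haveI : IsNoetherian (φ ⁻¹ᵁ U).toScheme := {}
  obtain ⟨c, hc⟩ := (bijective_resAlong (φ ∣_ U)).2 (KLoc28.res (φ ⁻¹ᵁ U) (poinc hKY₁.bijective y₁))
  obtain ⟨c', rfl⟩ := KLoc28.res_surjective c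
  obtain ⟨y, rfl⟩ := (bijective_poinc hKY.bijective hYreg (KRR28.enough_of_ample hA)).2 c'
  obtain ⟨x₁, hx₁⟩ := (exists_of_res hKY₁.bijective hY₁reg (KRR28.enough_of_ample hA₁) f₁
    (isRegularClosedImmersion_exceptional hφ hsq) hX₁reg
    (KRR28.enough_of_ample (AmpleLib.isAmple_pullback_of_isAffineHom f₁ hA₁)) hKX₁.bijective hgf₁
    (coe_off_preimage hsq)).1 (y₁ - gφ y)
    (by rw [map_sub, map_sub, res_pull hKY.bijective φ U hKY₁.bijective hgφ, hc, sub_self])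
  exact ⟨x₁, y, by rw [hx₁, sub_add_cancel]⟩

/-- Exactness in the middle of the blow-up sequence. -/
theorem sequence_exact (hqY : KRR.IsQProjOver qY)
    (hYreg : ∀ y : Y, IsRegularLocalRing (Y.presheaf.stalk y)) (hf : Mor2.IsRegularClosedImmersion f) {m : ℕ}
    (hC : FlatMod.IsFinLocFreeOfRank (m + 1) (Omega.conormal f))
    (hXreg : ∀ x : X, IsRegularLocalRing (X.presheaf.stalk x)) (hφ : BlowUp.IsBlowUp φ f.ker)
    (hsq : IsPullback f₁ ψ φ f) (hC₁ : FlatMod.IsFinLocFreeOfRank 1 (Omega.conormal f₁))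
    (hKX : KRR.IsModel X KX PX φX)
    (hKY : KRR.IsModel Y KY PY φY) (hKX₁ : KRR.IsModel X₁ KX₁ PX₁ φX₁) (hKY₁ : KRR.IsModel Y₁ KY₁ PY₁ φY₁)
    (hgφ : KRR.IsPull φ φY φY₁ gφ) (hgψ : KRR.IsPull ψ φX φX₁ gψ) (hgf : KRR.IsPushCl f φX φY gf)
    (hgf₁ : KRR.IsPushCl f₁ φX₁ φY₁ gf₁) :
    (∀ x : KX, gf₁ (-(KRR.lamAlt PX₁ (gψ (φX (KRR.cl X (Omega.conormal f))) - φX₁ (KRR.cl X₁ (Omega.conormal f₁))) *
      gψ x)) + gφ (gf x) = 0) ∧
    ∀ (x₁ : KX₁) (y : KY), gf₁ x₁ + gφ y = 0 → ∃ x : KX,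
      -(KRR.lamAlt PX₁ (gψ (φX (KRR.cl X (Omega.conormal f))) - φX₁ (KRR.cl X₁ (Omega.conormal f₁))) * gψ x) = x₁ ∧
        gf x = y := by
  obtain ⟨A, hA⟩ := KRR28.exists_isAmple_qproj hqY
  haveI := hf.1
  haveI := isNoetherian_blowUp hφ
  haveI := isNoetherian_closed f
  haveI := isNoetherian_closed f₁
  obtain ⟨A₁, hA₁⟩ := exists_isAmple_blowUp hA hφ
  have hY₁reg := regular_blowUp hYreg f hf hXreg hφ
  have hX₁reg := regular_locPn hXreg
    (locPn_exceptional f hf hC φ hφ f₁ ψ hsq (KRRPBLib.isInvertible_of_rankOne hC₁))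
  have hf₁ := isRegularClosedImmersion_exceptional hφ hsq
  have hex := KRR28.excess' hA hA₁ f hf hC φ f₁ ψ hsq hf₁ hC₁ hKX hKY hKX₁ hKY₁ hgφ hgψ hgf hgf₁
  refine ⟨fun x => by rw [map_neg, ← hex, neg_add_cancel], fun x₁ y h => ?_⟩
  haveI := SDiv28.isIso_off_center hφ
  let U : Y.Opens := f.ker.support.compl
  haveI : CompactSpace U.toScheme := isCompact_iff_compactSpace.1 (NoetherianSpace.isCompact (U : Set Y))
  haveI : IsLocallyNoetherian U.toScheme := isLocallyNoetherian_of_isOpenImmersion U.ι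
  haveI : IsNoetherian U.toScheme := {}
  haveI : CompactSpace (φ ⁻¹ᵁ U).toScheme :=
    isCompact_iff_compactSpace.1 (NoetherianSpace.isCompact ((φ ⁻¹ᵁ U : Y₁.Opens) : Set Y₁))
  haveI : IsLocallyNoetherian (φ ⁻¹ᵁ U).toScheme := isLocallyNoetherian_of_isOpenImmersion (φ ⁻¹ᵁ U).ι
  haveI : IsNoetherian (φ ⁻¹ᵁ U).toScheme := {}
  have hres : KLoc28.res U (poinc hKY.bijective y) = 0 := by
    refine (bijective_resAlong (φ ∣_ U)).1 ?_
    rw [← res_pull hKY.bijective φ U hKY₁.bijective hgφ, map_zero, eq_neg_of_add_eq_zero_right h, map_neg, map_neg,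
      (exists_of_res hKY₁.bijective hY₁reg (KRR28.enough_of_ample hA₁) f₁ hf₁ hX₁reg
        (KRR28.enough_of_ample (AmpleLib.isAmple_pullback_of_isAffineHom f₁ hA₁)) hKX₁.bijective hgf₁
        (coe_off_preimage hsq)).2 x₁, neg_zero]
  obtain ⟨w, rfl⟩ := (exists_of_res hKY.bijective hYreg (KRR28.enough_of_ample hA) f hf hXreg
    (KRR28.enough_of_ample (AmpleLib.isAmple_pullback_of_isAffineHom f hA)) hKX.bijective hgf coe_off).1 y hres
  obtain ⟨g, hg, D⟩ := exists_data f hf hC φ hφ f₁ ψ hsq hC₁ hKX hKX₁ hgψ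
  set L := KRR.lamAlt PX₁ (gψ (φX (KRR.cl X (Omega.conormal f))) - φX₁ (KRR.cl X₁ (Omega.conormal f₁))) with hL
  have hz : gf₁ (x₁ + L * gψ w) = 0 := by rw [map_add, ← hex, h]
  obtain ⟨w', hw'⟩ := D.exists_eq_lamAlt_mul
    (mul_one_sub_eq_zero_of_push hA₁ f₁ hf₁ hC₁ hKX₁ hKY₁ hgf₁ hz)
  rw [hg, hg, ← hL] at hw'
  have h0 : gf w' = 0 := injective_pull_blowUp hA hf hφ hKY hKY₁ hgφ (by rw [hex, ← hw', hz])
  exact ⟨w - w', by linear_combination (norm := (rw [map_sub]; ring)) -hw', by rw [map_sub, h0, sub_zero]⟩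

end Sequence

end Groth.Agent.BlowUpK28
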