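import Groth.Agent.BlowUpK28.Powers
import Groth.Agent.BlowUpKoszul.StalkApps
import Groth.Agent.NeronLib.Regular
import Groth.Agent.Dual22Lib.ProjSmooth
import Groth.Agent.FlatMorAdm.BlowUpProj
import Groth.Agent.AmpleLib.Compose
import Groth.Agent.KLoc28.Supp
import Groth.Agent.KLoc28.RatFilt
import Groth.Agent.KRR28.Transfer

/-!
# The `K`-theory of a blow-up: standing facts and localization
-/

set_option autoImplicit false
set_option linter.style.haveILetI false
set_option backward.isDefEq.respectTransparency false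
set_option maxHeartbeats 800000

universe u v

open CategoryTheory CategoryTheory.Limits AlgebraicGeometry TopologicalSpace LambdaRing
attribute [local instance] HasDerivedCategory.standard

noncomputable section

namespace Groth.Agent.BlowUpK28

variable {X Y X₁ Y₁ : Scheme.{u}}

/-- The exceptional divisor is regularly immersed. -/
theorem isRegularClosedImmersion_exceptional {f : X ⟶ Y} [IsClosedImmersion f] {φ : Y₁ ⟶ Y}
    (hφ : BlowUp.IsBlowUp φ f.ker) {f₁ : X₁ ⟶ Y₁} {ψ : X₁ ⟶ X} (hsq : IsPullback f₁ ψ φ f) [IsClosedImmersion f₁] :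
    Mor2.IsRegularClosedImmersion f₁ := by
  have hker : f₁.ker = f.ker.comap φ := AlgSpLib.ker_of_isPullback_closedImmersion hsq
  refine ⟨inferInstance, fun z => ?_⟩
  obtain ⟨U, hU, a, ha, hspan⟩ := hφ.1 (f₁ z)
  rw [← hker] at hspan
  refine ⟨U.1, U.2, hU, [a], ⟨?_, ?_⟩, ?_⟩
  · rw [RingTheory.Sequence.isWeaklyRegular_cons_iff]
    exact ⟨fun b c h => (mul_cancel_left_mem_nonZeroDivisors ha).1 h, RingTheory.Sequence.IsWeaklyRegular.nil _ _⟩
  · rw [smul_eq_mul, Ideal.mul_top, Ideal.ofList_singleton, ← hspan]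
    intro h
    have hz : f₁ z ∈ (f₁.ker.support : Set Y₁) ∩ U.1 := ⟨f₁.range_subset_ker_support ⟨z, rfl⟩, hU⟩
    rw [f₁.ker.coe_support_inter U, ← h] at hz
    simp at hz
  · rw [Ideal.ofList_singleton, hspan]

/-- The blow-up of a regular scheme in a regular centre is regular. -/
theorem regular_blowUp [IsNoetherian Y] (hY : ∀ y : Y, IsRegularLocalRing (Y.presheaf.stalk y))
    (f : X ⟶ Y) (hf : Mor2.IsRegularClosedImmersion f) (hX : ∀ x : X, IsRegularLocalRing (X.presheaf.stalk x))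
    {φ : Y₁ ⟶ Y} (hφ : BlowUp.IsBlowUp φ f.ker) (z : Y₁) : IsRegularLocalRing (Y₁.presheaf.stalk z) := by
  haveI := hf.1
  haveI : IsLocallyNoetherian X := LocallyOfFiniteType.isLocallyNoetherian f
  refine BlowUpKoszul.isRegularLocalRing_stalk_blowUp hY (fun U => ?_) (fun y hy => ?_) hφ z
  · have hA : IsAffineOpen (f ⁻¹ᵁ U.1) := U.2.preimage f
    haveI := BlowUpKoszul.isRegularRing_sections hX ⟨_, hA⟩
    exact IsRegularRing.of_ringEquiv ((Ideal.quotEquivOfEq (Scheme.Hom.ker_apply f U)).trans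
      (RingHom.quotientKerEquivOfSurjective (f.app_surjective U.1 U.2))).symm
  · obtain ⟨x, rfl⟩ : y ∈ Set.range f := by
      rw [← f.isClosedEmbedding.isClosed_range.closure_eq, ← f.support_ker]
      exact hy
    obtain ⟨U, hU, hxU, rs, hrs, hid⟩ := hf.2 x
    exact ⟨⟨U, hU⟩, hxU, rs, hrs, hid⟩

/-- A scheme locally `P^m` over a regular one is regular. -/
theorem regular_locPn [IsLocallyNoetherian X] (hX : ∀ x : X, IsRegularLocalRing (X.presheaf.stalk x)) {m : ℕ}
    {ψ : X₁ ⟶ X} {L : X₁.Modules} (H : KPB28.LocPn m ψ L) (z : X₁) :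
    IsRegularLocalRing (X₁.presheaf.stalk z) := by
  haveI : Smooth ψ := by
    choose V φ ψ' hφ hV h ht e using H.chart
    let 𝒰 : X.OpenCover := Scheme.Cover.mkOfCovers X V φ (fun t => ⟨t, ht t⟩) (fun t => hφ t)
    refine IsZariskiLocalAtTarget.of_openCover (P := @Smooth) 𝒰 fun t => ?_
    rw [show 𝒰.pullbackHom ψ t = pullback.snd ψ (φ t) from rfl,
      ← (h t).isoPullback_inv_snd, MorphismProperty.cancel_left_of_respectsIso (P := @Smooth)]
    exact Dual22Lib.ProjSmooth.smooth_toBase m (V t)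
  obtain ⟨U, hU, hzU, -⟩ := exists_isAffineOpen_mem_and_subset (x := ψ z) (U := ⊤) trivial
  haveI := BlowUpKoszul.isRegularRing_sections hX ⟨U, hU⟩
  haveI : Smooth (ψ ∣_ U) := IsZariskiLocalAtTarget.restrict ‹Smooth ψ› U
  haveI : Smooth ((ψ ∣_ U) ≫ hU.isoSpec.hom) :=
    (MorphismProperty.cancel_right_of_respectsIso (P := @Smooth) _ _).2 inferInstance
  haveI := NeronLib.isRegularLocalRing_stalk_of_smooth ((ψ ∣_ U) ≫ hU.isoSpec.hom) ⟨z, hzU⟩
  exact IsRegularLocalRing.of_ringEquiv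
    (R := (ψ ⁻¹ᵁ U).toScheme.presheaf.stalk ⟨z, hzU⟩) ((ψ ⁻¹ᵁ U).stalkIso ⟨z, hzU⟩).commRingCatIsoToRingEquiv

theorem isProper_blowUp [IsNoetherian Y] {I : Y.IdealSheafData} {φ : Y₁ ⟶ Y} (hφ : BlowUp.IsBlowUp φ I) :
    IsProper φ :=
  BlowUpLib.isProper_of_isBlowUp hφ fun U => by
    haveI := IsLocallyNoetherian.component_noetherian U
    exact Ideal.fg_of_isNoetherianRing _

theorem isNoetherian_blowUp [IsNoetherian Y] {I : Y.IdealSheafData} {φ : Y₁ ⟶ Y} (hφ : BlowUp.IsBlowUp φ I) :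
    IsNoetherian Y₁ := by
  haveI := isProper_blowUp hφ
  haveI : IsLocallyNoetherian Y₁ := LocallyOfFiniteType.isLocallyNoetherian φ
  haveI : CompactSpace Y₁ := QuasiCompact.compactSpace_of_compactSpace φ
  exact {}

theorem exists_isAmple_blowUp [IsNoetherian Y] {A : Y.Modules} (hA : CohB1.IsAmple A) {I : Y.IdealSheafData}
    {φ : Y₁ ⟶ Y} (hφ : BlowUp.IsBlowUp φ I) : ∃ A₁ : Y₁.Modules, CohB1.IsAmple A₁ := by
  haveI := isProper_blowUp hφ
  obtain ⟨N, hN⟩ := AmpleLib.eventually_isAmple_tensor_pullback φ hA (FlatMorAdm.isRelAmple_blowUp hφ)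
  exact ⟨_, hN N le_rfl⟩

theorem isNoetherian_closed [IsNoetherian Y] (f : X ⟶ Y) [IsClosedImmersion f] : IsNoetherian X := by
  haveI : IsLocallyNoetherian X := LocallyOfFiniteType.isLocallyNoetherian f
  haveI : CompactSpace X := f.isClosedEmbedding.compactSpace
  exact {}

theorem range_exceptional {f : X ⟶ Y} {φ : Y₁ ⟶ Y} {f₁ : X₁ ⟶ Y₁} {ψ : X₁ ⟶ X} (hsq : IsPullback f₁ ψ φ f) :
    Set.range f₁ = φ ⁻¹' Set.range f := by
  ext y
  constructor
  · rintro ⟨z, rfl⟩
    exact ⟨ψ z, (congrArg (fun g : X₁ ⟶ Y => g z) hsq.w).symm⟩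
  · rintro ⟨x, hx⟩
    obtain ⟨t, ht, -⟩ := Scheme.Pullback.exists_preimage_pullback (f := φ) (g := f) y x hx.symm
    refine ⟨hsq.isoPullback.inv t, ?_⟩
    rw [← ht]
    exact congrArg (fun g : pullback φ f ⟶ Y₁ => g t) hsq.isoPullback_inv_fst

/-! ### Localization -/

theorem additive_restrict {U W : Scheme.{u}} (j : U ⟶ W) [IsOpenImmersion j] :
    (Scheme.Modules.restrictFunctor j).Additive :=
  haveI := KLoc28.preservesFiniteLimits_restrict j
  Functor.additive_of_preserves_binary_products _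

/-- Restriction of classes along an open immersion. -/
def resAlong {U W : Scheme.{u}} (j : U ⟶ W) [IsOpenImmersion j] : SGA6.Kcoh W →+ SGA6.Kcoh U :=
  haveI := KLoc28.preservesFiniteLimits_restrict j
  haveI := KLoc28.preservesFiniteColimits_restrict j
  haveI := additive_restrict j
  SGA6.mapSub (Scheme.Modules.restrictFunctor j) _ _ fun M h => AmpleLib.isCoh_restrict j M h

theorem resAlong_cl {U W : Scheme.{u}} (j : U ⟶ W) [IsOpenImmersion j] {M : W.Modules} (hM : Coh.IsCoh M) :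
    resAlong j (KLoc28.cl M) = KLoc28.cl ((Scheme.Modules.restrictFunctor j).obj M) :=
  haveI := KLoc28.preservesFiniteLimits_restrict j
  haveI := KLoc28.preservesFiniteColimits_restrict j
  haveI := additive_restrict j
  KLoc28.mapSub_clSub _ _ _ _ hM

theorem resAlong_comp {U V W : Scheme.{u}} [IsNoetherian U] [IsNoetherian V] [IsNoetherian W]
    (j : U ⟶ V) (k : V ⟶ W) [IsOpenImmersion j] [IsOpenImmersion k] (x : SGA6.Kcoh W) :
    resAlong j (resAlong k x) = resAlong (j ≫ k) x := by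
  refine KPr28.k0_induction (R := fun x => resAlong j (resAlong k x) = resAlong (j ≫ k) x)
    _ (by simp) (fun F hF => ?_) (fun a h => by simp only [map_neg, h])
    (fun a b ha hb => by simp only [map_add, ha, hb]) x
  rw [show KZero.clSub _ F = KLoc28.cl F from rfl, resAlong_cl k hF,
    resAlong_cl j (M := (Scheme.Modules.restrictFunctor k).obj F) (AmpleLib.isCoh_restrict k F hF), resAlong_cl _ hF]
  exact KTop28.cl_iso ((Scheme.Modules.restrictFunctorComp j k).app F).symm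

theorem resAlong_eq_id {U : Scheme.{u}} [IsNoetherian U] (j : U ⟶ U) [IsOpenImmersion j] (h : j = 𝟙 U)
    (x : SGA6.Kcoh U) : resAlong j x = x := by
  refine KPr28.k0_induction (R := fun x => resAlong j x = x)
    _ (by simp) (fun F hF => ?_) (fun a h => by simp only [map_neg, h])
    (fun a b ha hb => by simp only [map_add, ha, hb]) x
  rw [show KZero.clSub _ F = KLoc28.cl F from rfl, resAlong_cl j hF]
  exact KTop28.cl_iso ((Scheme.Modules.restrictFunctorCongr h).app F ≪≫ Scheme.Modules.restrictFunctorId.app F)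

theorem bijective_resAlong {U W : Scheme.{u}} [IsNoetherian U] [IsNoetherian W] (j : U ⟶ W) [IsIso j] :
    Function.Bijective (resAlong j) :=
  Function.bijective_iff_has_inverse.2 ⟨resAlong (inv j),
    fun x => by rw [resAlong_comp, resAlong_eq_id _ (IsIso.inv_hom_id j)],
    fun x => by rw [resAlong_comp, resAlong_eq_id _ (IsIso.hom_inv_id j)]⟩

section Poincare

variable [IsNoetherian Y] {KY : Type v} [CommRing KY] {φY : SGA6.Kvb Y →+ KY} (hb : Function.Bijective φY)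

omit [AlgebraicGeometry.IsNoetherian Y] in
theorem isCoh_vb (M : Y.Modules) (h : FlatMod.IsFinLocFree M) : Coh.IsCoh M :=
  Coherent.CohBC.isCoh_of_isFinLocFree h

/-- The Poincaré map on a model. -/
def poinc : KY →+ SGA6.Kcoh Y :=
  (SGA6.mapSub (𝟭 Y.Modules) (KRR.vbP Y) (fun M : Y.Modules => Coh.IsCoh M) isCoh_vb).comp
    (AddEquiv.ofBijective φY hb).symm.toAddMonoidHom

theorem poinc_apply (z : SGA6.Kvb Y) :
    poinc hb (φY z) = SGA6.mapSub (𝟭 Y.Modules) (KRR.vbP Y) (fun M : Y.Modules => Coh.IsCoh M) isCoh_vb z :=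
  congrArg (SGA6.mapSub _ _ _ _) ((AddEquiv.ofBijective φY hb).symm_apply_apply z)

theorem poinc_cl {E : Y.Modules} (hE : FlatMod.IsFinLocFree E) : poinc hb (φY (KRR.cl Y E)) = KLoc28.cl E := by
  rw [poinc_apply, ResLF28.mapSub_clSub _ _ _ hE]

theorem bijective_poinc (hreg : ∀ y : Y, IsRegularLocalRing (Y.presheaf.stalk y)) (hY : KRR.HasEnoughLocFree Y) :
    Function.Bijective (poinc hb) :=
  (S3746.result Y hreg hY isCoh_vb).comp (AddEquiv.ofBijective φY hb).symm.bijective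

/-- Classes killed off a regularly immersed subscheme come from it. -/
theorem exists_of_res [ConnectedSpace ↥Y] (hY : ∀ y : Y, IsRegularLocalRing (Y.presheaf.stalk y))
    (hYe : KRR.HasEnoughLocFree Y) (f : X ⟶ Y) (hf : Mor2.IsRegularClosedImmersion f)
    (hX : ∀ x : X, IsRegularLocalRing (X.presheaf.stalk x)) (hXe : KRR.HasEnoughLocFree X)
    {KX : Type v} [CommRing KX] {φX : SGA6.Kvb X →+ KX} (hbX : Function.Bijective φX)
    {gf : KX →+ KY} (hgf : KRR.IsPushCl f φX φY gf) {U : Y.Opens} (hU : (U : Set Y) = (Set.range f)ᶜ) :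
    (∀ y, KLoc28.res U (poinc hb y) = 0 → ∃ x, gf x = y) ∧ ∀ x, KLoc28.res U (poinc hb (gf x)) = 0 := by
  haveI := hf.1
  haveI := isNoetherian_closed f
  obtain ⟨g, hg⟩ := KLoc28.exists_push f
  have key : ∀ x, poinc hb (gf x) = g (poinc hbX x) := fun x => by
    obtain ⟨z, rfl⟩ := hbX.2 x
    refine KvbLam28.kvb_induction (P := fun z => poinc hb (gf (φX z)) = g (poinc hbX (φX z))) (by simp)
      (fun E hE => ?_) (fun a h => by simp only [map_neg, h]) (fun a b ha hb => by simp only [map_add, ha, hb]) z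
    rw [poinc_cl hbX hE, hg E (isCoh_vb E hE),
      KPush28.isPushCl_apply hYe hgf hE (KPush28.cohBdd_push f hYe hf hE), poinc_apply,
      KLoc28.mapSub_vbCl hYe (ResLF28.isCoh_eq_cohBdd hY hYe) isCoh_vb]
  refine ⟨fun y hy => ?_, fun x => ?_⟩
  · obtain ⟨c, hc⟩ : poinc hb y ∈ g.range := KLoc28.ker_res_eq hU hg ▸ hy
    obtain ⟨x, rfl⟩ := (bijective_poinc hbX hX hXe).2 c
    exact ⟨x, (bijective_poinc hb hY hYe).1 ((key x).trans hc)⟩
  · exact KLoc28.range_le_ker hU hg ⟨poinc hbX x, (key x).symm⟩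

/-- The Poincaré map and restriction commute with pull-back. -/
theorem res_pull [IsNoetherian Y₁] (φ : Y₁ ⟶ Y) (U : Y.Opens) [IsIso (φ ∣_ U)]
    {KY₁ : Type v} [CommRing KY₁] {φY₁ : SGA6.Kvb Y₁ →+ KY₁} (hb₁ : Function.Bijective φY₁) {gφ : KY →+ KY₁}
    (hgφ : KRR.IsPull φ φY φY₁ gφ) (y : KY) :
    KLoc28.res (φ ⁻¹ᵁ U) (poinc hb₁ (gφ y)) = resAlong (φ ∣_ U) (KLoc28.res U (poinc hb y)) := by
  obtain ⟨z, rfl⟩ := hb.2 y
  refine KvbLam28.kvb_induction (P := fun z => KLoc28.res (φ ⁻¹ᵁ U) (poinc hb₁ (gφ (φY z))) =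
    resAlong (φ ∣_ U) (KLoc28.res U (poinc hb (φY z)))) (by simp)
    (fun E hE => ?_) (fun a h => by simp only [map_neg, h]) (fun a b ha hb => by simp only [map_add, ha, hb]) z
  haveI : IsLocallyNoetherian U.toScheme := isLocallyNoetherian_of_isOpenImmersion U.ι
  haveI : IsLocallyNoetherian (φ ⁻¹ᵁ U).toScheme := isLocallyNoetherian_of_isOpenImmersion (φ ⁻¹ᵁ U).ι
  rw [hgφ E hE, poinc_cl hb₁ (FlatMorAdm.isFinLocFree_pullback φ hE), poinc_cl hb hE,
    KLoc28.res_cl (isCoh_vb _ (FlatMorAdm.isFinLocFree_pullback φ hE)), KLoc28.res_cl (isCoh_vb E hE),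
    resAlong_cl _ (KLoc28.isCoh_res (isCoh_vb E hE))]
  exact KTop28.cl_iso ((Scheme.Modules.restrictFunctorIsoPullback (φ ⁻¹ᵁ U).ι).app _ ≪≫
    (Scheme.Modules.pullbackComp _ _).app E ≪≫ (Scheme.Modules.pullbackCongr (morphismRestrict_ι φ U).symm).app E ≪≫
    (Scheme.Modules.restrictFunctorIsoPullback ((φ ∣_ U) ≫ U.ι)).symm.app E ≪≫
    (Scheme.Modules.restrictFunctorComp (φ ∣_ U) U.ι).app E)

end Poincare

end Groth.Agent.BlowUpK28
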